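import Cfsg.Agent.Lib.FC.Def
import Cfsg.Agent.Lib.Fusion.Comp

/-!
Elementary facts on `E2`, `CSet`, `NS`, `HB`, `KF` (tower FC, S5161).
-/

set_option autoImplicit false
set_option linter.unusedSectionVars false

namespace Cfsg.Lib.FC
open Subgroup Cfsg.Lib.Fusion Cfsg.Lib.Transfer
open scoped commutatorElement

variable {G H : Type*} [Group G] [Group H] {x y : G} {P Q R : Subgroup G} {X : Set G}

theorem E2.one : E2 (1 : G) := ⟨0, by simp⟩

theorem e2_of_mem (hP : IsPGroup 2 P) (hx : x ∈ P) : E2 x :=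
  let ⟨k, hk⟩ := hP ⟨x, hx⟩; ⟨k, congrArg Subtype.val hk⟩

theorem e2_of_sq (h : x * x = 1) : E2 x := ⟨1, by simpa [sq] using h⟩

theorem E2.map (h : E2 x) (f : G →* H) : E2 (f x) :=
  let ⟨k, hk⟩ := h; ⟨k, by rw [← map_pow, hk, map_one]⟩

theorem E2.conj (h : E2 x) (g : G) : E2 (g * x * g⁻¹) := h.map (MulAut.conj g).toMonoidHom

theorem E2.inv (h : E2 x) : E2 x⁻¹ := let ⟨k, hk⟩ := h; ⟨k, by rw [inv_pow, hk, inv_one]⟩

theorem E2.pow (h : E2 x) (n : ℕ) : E2 (x ^ n) :=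
  let ⟨k, hk⟩ := h; ⟨k, by rw [← pow_mul, mul_comm, pow_mul, hk, one_pow]⟩

theorem E2.mul (h : E2 x) (h' : E2 y) (c : x * y = y * x) : E2 (x * y) := by
  obtain ⟨k, hk⟩ := h
  obtain ⟨l, hl⟩ := h'
  exact ⟨k + l, by rw [Commute.mul_pow c, pow_add, pow_mul, hk, mul_comm (2 ^ k), pow_mul, hl]; simp⟩

theorem e2_coe {x : P} : E2 (x : G) ↔ E2 x :=
  ⟨fun ⟨k, hk⟩ => ⟨k, Subtype.ext hk⟩, fun h => h.map P.subtype⟩

theorem e2_of_pow {k : ℕ} (h : E2 (x ^ 2 ^ k)) : E2 x :=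
  let ⟨l, hl⟩ := h; ⟨k + l, by rw [pow_add, pow_mul, hl]⟩

theorem E2.pg (h : E2 x) : IsPGroup 2 (zpowers x) := let ⟨_, hk⟩ := h; isPGroup_zpowers hk

theorem E2.eq_one (h : E2 x) (ho : Odd (orderOf x)) : x = 1 := by
  obtain ⟨k, hk⟩ := h
  exact orderOf_eq_one_iff.1 (Nat.Coprime.eq_one_of_dvd ((Nat.coprime_two_right.2 ho).pow_right k)
    (orderOf_dvd_of_pow_eq_one hk))

/-- two commuting 2-elements generate a 2-group -/
theorem E2.pg_sup (h : E2 x) (h' : E2 y) (c : x * y = y * x) :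
    IsPGroup 2 (zpowers x ⊔ zpowers y : Subgroup G) := by
  refine IsPGroup.to_sup_of_normal_right' h.pg h'.pg
    (zpowers_le.2 (centralizer_le_normalizer _ (mem_centralizer_iff.2 ?_)))
  rintro _ ⟨n, rfl⟩
  exact ((Commute.zpow_right (show Commute x y from c) n).symm : _)

theorem exists_split [Finite G] (g : G) :
    ∃ a ∈ zpowers g, ∃ b ∈ zpowers g, E2 a ∧ Odd (orderOf b) ∧ g = a * b := by
  obtain ⟨k, m, hm, e⟩ := Nat.exists_eq_two_pow_mul_odd (orderOf_pos g).ne'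
  obtain ⟨u, v, huv⟩ : IsCoprime (m : ℤ) ((2 ^ k : ℕ) : ℤ) :=
    Nat.isCoprime_iff_coprime.2 ((Nat.coprime_two_right.2 hm).pow_right k)
  have h0 : g ^ ((2 ^ k : ℕ) * (m : ℤ)) = 1 := by
    rw [← Nat.cast_mul, ← e, zpow_natCast, pow_orderOf_eq_one]
  refine ⟨g ^ (u * m), ⟨_, rfl⟩, g ^ (v * (2 ^ k : ℕ)), ⟨_, rfl⟩, ⟨k, ?_⟩, ?_, ?_⟩
  · rw [← zpow_natCast, ← zpow_mul, show u * m * ((2 ^ k : ℕ) : ℤ) = (2 ^ k : ℕ) * (m : ℤ) * u by ring,
      zpow_mul, h0, one_zpow]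
  · refine hm.of_dvd_nat (orderOf_dvd_of_pow_eq_one ?_)
    rw [← zpow_natCast, ← zpow_mul, show v * ((2 ^ k : ℕ) : ℤ) * m = (2 ^ k : ℕ) * (m : ℤ) * v by ring,
      zpow_mul, h0, one_zpow]
  · rw [← zpow_add, huv, zpow_one]

theorem exists_conj_sylow [Finite G] (S : Sylow 2 G) (h : E2 x) :
    ∃ g, g * x * g⁻¹ ∈ (S : Subgroup G) := by
  obtain ⟨g, hg⟩ := exists_conj_le_sylow S h.pg
  exact ⟨g, conj_le_iff.1 hg x (mem_zpowers x)⟩

/-- a 2-element lifts to a 2-element -/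
theorem E2.lift [Finite G] {f : G →* H} (hf : Function.Surjective f) {y : H} (h : E2 y) :
    ∃ x, E2 x ∧ f x = y := by
  obtain ⟨x, rfl⟩ := hf y
  obtain ⟨a, ⟨i, rfl⟩, b, ⟨j, rfl⟩, h1, h2, e⟩ := exists_split x
  have h3 : f (x ^ j) = 1 := by
    refine E2.eq_one ?_ (h2.of_dvd_nat (orderOf_map_dvd f _))
    obtain ⟨k, hk⟩ := h
    exact ⟨k, by rw [map_zpow, ← zpow_natCast, ← zpow_mul, mul_comm, zpow_mul, zpow_natCast, hk,
      one_zpow]⟩
  refine ⟨x ^ i, h1, ?_⟩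
  conv_rhs => rw [e, map_mul, h3, mul_one]

section
variable {K : Subgroup G} (h : CSet 2 K X)
include h

theorem _root_.Cfsg.Lib.Fusion.CSet.one : (1 : G) ∈ X :=
  let ⟨T, hT⟩ := h.sub bot_le IsPGroup.of_bot; ((hT 1).1 T.one_mem).2

theorem _root_.Cfsg.Lib.Fusion.CSet.mul (h1 : R ≤ K) (h2 : IsPGroup 2 R) (a : x ∈ R) (b : y ∈ R) (hx : x ∈ X) (hy : y ∈ X) :
    x * y ∈ X :=
  let ⟨T, hT⟩ := h.sub h1 h2; ((hT _).1 (T.mul_mem ((hT _).2 ⟨a, hx⟩) ((hT _).2 ⟨b, hy⟩))).2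

theorem _root_.Cfsg.Lib.Fusion.CSet.zpow (a : x ∈ K) (e : E2 x) (hx : x ∈ X) (n : ℤ) : x ^ n ∈ X :=
  let ⟨T, hT⟩ := h.sub (zpowers_le.2 a) e.pg
  ((hT _).1 (T.zpow_mem ((hT _).2 ⟨mem_zpowers x, hx⟩) n)).2

theorem _root_.Cfsg.Lib.Fusion.CSet.inv (a : x ∈ K) (e : E2 x) (hx : x ∈ X) : x⁻¹ ∈ X := by simpa using h.zpow a e hx (-1)

theorem _root_.Cfsg.Lib.Fusion.CSet.pow (a : x ∈ K) (e : E2 x) (hx : x ∈ X) (n : ℕ) : x ^ n ∈ X := by
  simpa using h.zpow a e hx n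

theorem _root_.Cfsg.Lib.Fusion.CSet.mul_comm (a : x ∈ K) (b : y ∈ K) (e : E2 x) (e' : E2 y) (c : x * y = y * x) (hx : x ∈ X)
    (hy : y ∈ X) : x * y ∈ X :=
  h.mul (sup_le (zpowers_le.2 a) (zpowers_le.2 b)) (e.pg_sup e' c) (mem_sup_left (mem_zpowers x))
    (mem_sup_right (mem_zpowers y)) hx hy

theorem _root_.Cfsg.Lib.Fusion.CSet.closure_le (h1 : R ≤ K) (h2 : IsPGroup 2 R) {s : Set G} (a : s ⊆ R) (b : s ⊆ X)
    (hx : x ∈ closure s) : x ∈ X := by
  obtain ⟨T, hT⟩ := h.sub h1 h2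
  exact ((hT _).1 ((Subgroup.closure_le T).2 (fun y hy => (hT y).2 ⟨a hy, b hy⟩) hx)).2

theorem _root_.Cfsg.Lib.Fusion.CSet.mono {L : Subgroup G} (e : L ≤ K) : CSet 2 L X :=
  ⟨fun a b => h.conj a (e b), fun a b => h.sub (a.trans e) b⟩

theorem _root_.Cfsg.Lib.Fusion.CSet.e2 : CSet 2 K {x | x ∈ X ∧ E2 x} :=
  ⟨fun a b => ⟨h.conj a.1 b, a.2.conj _⟩, fun a b => let ⟨T, hT⟩ := h.sub a b
    ⟨T, fun x => (hT x).trans (and_congr_right fun c => (and_iff_left (e2_of_mem b c)).symm)⟩⟩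

end

theorem cset_normal (N : Subgroup G) [h : N.Normal] : CSet 2 ⊤ (N : Set G) :=
  ⟨fun a _ => h.conj_mem _ a _, fun {R} _ _ => ⟨R ⊓ N, fun _ => Iff.rfl⟩⟩

theorem _root_.Cfsg.Lib.Fusion.CSet.comap {Y : Set H} (h : CSet 2 ⊤ Y) (f : G →* H) : CSet 2 ⊤ (f ⁻¹' Y) :=
  ⟨fun a _ => by simpa using h.conj a (mem_top _), fun {R} _ b =>
    let ⟨T, hT⟩ := h.sub le_top (b.map f)
    ⟨R ⊓ T.comap f, fun x => and_congr_right fun c =>
      (hT _).trans (and_iff_right (mem_map_of_mem f c))⟩⟩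

/-- For a 2-subgroup `R'` of `H` take a Sylow 2-subgroup `R` of `f⁻¹ R'`; a 2-element `x ∈ X` with
`f x ∈ R'` is conjugate into `R` by an element of `ker f` (`f⁻¹ R' = R * ker f`), so
`R' ∩ f X = f (R ∩ X)`. -/
theorem _root_.Cfsg.Lib.Fusion.CSet.map [Finite G] (h : CSet 2 ⊤ X) {f : G →* H} (hf : Function.Surjective f) :
    CSet 2 ⊤ (f '' {x | x ∈ X ∧ E2 x}) := by
  have : Finite H := .of_surjective f hf
  refine ⟨?_, fun {R'} _ hR' => ?_⟩
  · rintro _ g ⟨x, hx, rfl⟩ -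
    obtain ⟨g, rfl⟩ := hf g
    exact ⟨g * x * g⁻¹, ⟨h.conj hx.1 (mem_top _), hx.2.conj _⟩, by simp⟩
  obtain ⟨R, -, h1, h2, h3⟩ := exists_sylowIn_ge (p := 2) (H := R'.comap f) IsPGroup.of_bot bot_le
  have h4 : R.map f = R' := by
    refine eq_of_not_dvd_relIndex_of_le (p := 2) (H := R') (fun d => h3 ?_) hR' le_rfl
      (map_le_iff_le_comap.2 h1)
    rw [← map_comap_eq_self_of_surjective hf R', ← relIndex_comap] at d
    exact d.trans (relIndex_dvd_of_le_left _ (le_comap_map f R))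
  obtain ⟨T, hT⟩ := h.sub le_top h2
  refine ⟨T.map f, fun x => ⟨?_, ?_⟩⟩
  · rintro ⟨y, hy, rfl⟩
    exact ⟨h1 ((hT y).1 hy).1, y, ⟨((hT y).1 hy).2, e2_of_mem h2 ((hT y).1 hy).1⟩, rfl⟩
  · rintro ⟨a, y, hy, rfl⟩
    obtain ⟨k, b, c⟩ := exists_conj_le_of_not_dvd_relIndex' h3 hy.2.pg (zpowers_le.2 a)
    have d := conj_le_iff.1 c y (mem_zpowers y)
    obtain ⟨r, hr, er⟩ := h4.ge (show f k ∈ R' from b)
    refine ⟨r⁻¹ * (k * y * k⁻¹) * r⁻¹⁻¹, (hT _).2 ⟨mul_mem (mul_mem (inv_mem hr) d) (inv_mem (inv_mem hr)),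
      h.conj (h.conj hy.1 (mem_top _)) (mem_top _)⟩, ?_⟩
    simp [er, mul_assoc]

variable [Finite G] (S : Sylow 2 G)

/-- see the proof of `SylGrp.simple_of` -/
theorem cset_of_sc {T : Subgroup G} (h1 : T ≤ S)
    (h2 : ∀ x ∈ T, ∀ g : G, g * x * g⁻¹ ∈ (S : Subgroup G) → g * x * g⁻¹ ∈ T) :
    CSet 2 ⊤ {x | ∃ g, g * x * g⁻¹ ∈ T} := by
  refine ⟨fun {x g} ⟨k, b⟩ _ => ⟨k * g⁻¹, by simpa [mul_assoc] using b⟩, fun {R} _ b2 => ?_⟩
  obtain ⟨g, b4⟩ := exists_conj_le_sylow S b2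
  exact ⟨R ⊓ g⁻¹ ⋆ T, fun x => and_congr_right fun hx => ⟨fun h => ⟨g, by
    simpa using mem_conj.1 h⟩, fun ⟨k, c2⟩ => mem_conj.2 (by
      simpa [mul_assoc] using h2 _ c2 (g * k⁻¹) (by
        simpa [mul_assoc] using conj_le_iff.1 b4 x hx))⟩⟩

/-- `X ∩ S` is a nontrivial normal subgroup of `S` -/
theorem _root_.Cfsg.Lib.Fusion.CSet.exists_central (h : CSet 2 ⊤ X) (hx : x ∈ X) (h1 : x ≠ 1) (e : E2 x) :
    ∃ z ∈ X, z ∈ (S : Subgroup G) ∧ orderOf z = 2 ∧ ∀ s ∈ (S : Subgroup G), s * z = z * s := by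
  obtain ⟨T, hT⟩ := h.sub le_top S.2
  obtain ⟨g, hg⟩ := exists_conj_sylow S e
  have a1 : T ≤ S := fun y hy => ((hT y).1 hy).1
  have a2 : T ≠ ⊥ := fun a => h1 (by
    have := (hT _).2 ⟨hg, h.conj hx (mem_top g)⟩
    simpa [a] using this)
  obtain ⟨⟨z, hz⟩, hz1⟩ := ne_bot_iff_exists_ne_one.1 (inf_centralizer_ne_bot S.2 a1
    (fun s hs => mem_normalizer_fintype fun y hy => (hT _).2
      ⟨mul_mem (mul_mem hs (a1 hy)) (inv_mem hs), h.conj ((hT y).1 hy).2 (mem_top s)⟩) a2)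
  obtain ⟨k, hk⟩ := e2_of_mem S.2 (a1 hz.1)
  obtain ⟨l, -, hl⟩ := (Nat.dvd_prime_pow Nat.prime_two).1 (orderOf_dvd_of_pow_eq_one hk)
  have h4 := pow_mem hz (orderOf z / 2)
  exact ⟨_, ((hT _).1 h4.1).2, a1 h4.1, orderOf_pow_orderOf_div (orderOf_pos z).ne'
    (hl ▸ dvd_pow_self 2 fun e => hz1 (Subtype.ext (by simpa [e] using hl))), fun s hs => h4.2 s hs⟩

theorem _root_.Cfsg.Lib.Fusion.CSet.all (h : CSet 2 ⊤ X) (hS : ∀ s ∈ (S : Subgroup G), s ∈ X) (e : E2 y) : y ∈ X := by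
  obtain ⟨g, hg⟩ := exists_conj_sylow S e
  simpa [mul_assoc] using h.conj (hS _ hg) (mem_top g⁻¹)

theorem ns_of_central (h : ∀ X : Set G, CSet 2 ⊤ X → ∀ z ∈ X, z ∈ (S : Subgroup G) → orderOf z = 2 →
    (∀ s ∈ (S : Subgroup G), s * z = z * s) → ∀ s ∈ (S : Subgroup G), s ∈ X) : NS G :=
  fun X hX _ hx h1 e _ e' => let ⟨z, a, b, c, d⟩ := hX.exists_central S hx h1 e
    hX.all S (h X hX z a b c d) e'

theorem ns_of_noSC (h : Grp.NoSC (S : Subgroup G)) : NS G := by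
  refine ns_of_central S fun X hX z a b c _ s hs => ?_
  obtain ⟨T, hT⟩ := hX.sub le_top S.2
  rcases h T (fun y hy => ((hT y).1 hy).1)
    (fun y hy g hg => (hT _).2 ⟨hg, hX.conj ((hT y).1 hy).2 (mem_top g)⟩) with e | e
  · rw [mem_bot.1 (e ▸ (hT z).2 ⟨b, a⟩ : z ∈ (⊥ : Subgroup G)), orderOf_one] at c
    omega
  · exact ((hT s).1 (e ▸ hs)).2

theorem NS.noSC (h : NS G) : Grp.NoSC (S : Subgroup G) := by
  refine fun T h1 h2 => or_iff_not_imp_left.2 fun h0 => le_antisymm h1 fun s hs => ?_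
  obtain ⟨⟨x, hx⟩, hx1⟩ := ne_bot_iff_exists_ne_one.1 h0
  obtain ⟨g, hg⟩ := h _ (cset_of_sc S h1 h2) x ⟨1, by simpa using hx⟩
    (fun e => hx1 (Subtype.ext e)) (e2_of_mem S.2 (h1 hx)) s (e2_of_mem S.2 hs)
  simpa [mul_assoc] using h2 _ hg g⁻¹ (by simpa [mul_assoc] using hs)

omit S in
theorem NS.congr (h : NS G) (e : G ≃* H) : NS H := by
  intro Y hY x hx h1 h2 y hy
  simpa using h _ (hY.comap e.toMonoidHom) (e.symm x) (by simpa using hx) (by simpa using h1)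
    (h2.map e.symm.toMonoidHom) (e.symm y) (hy.map e.symm.toMonoidHom)

/-- 2-elements centralising a normal self-centralising subgroup of `S`: `C_S(Q)` is a Sylow
subgroup of `C(Q) ⊴ N(Q) ≥ S`, and it is central there -/
theorem cen2_of_normal (h1 : Q ≤ S) (h2 : (S : Subgroup G) ≤ normalizer (Q : Set G))
    (h3 : ∀ s ∈ (S : Subgroup G), s ∈ centralizer (Q : Set G) → s ∈ Q) :
    ∀ c ∈ centralizer (Q : Set G), E2 c → c ∈ Q := by
  intro c hc e
  obtain ⟨k, b, d⟩ := exists_conj_le_of_not_dvd_relIndex' (not_dvd_relIndex_of_le_normalizer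
    (sylow_not_dvd_relIndex S h2) (centralizer_le_normalizer _)
    (normalizer_le_normalizer_centralizer' Q)) e.pg (zpowers_le.2 hc)
  have a := h3 _ (conj_le_iff.1 d c (mem_zpowers c)) (mul_mem (mul_mem b hc) (inv_mem b))
  have := mem_centralizer_iff.1 b _ a
  rwa [show k * c * k⁻¹ = c from mul_left_cancel (a := k) (by
    rw [← this, inv_mul_cancel_right]) ] at a

/-- transport along an isomorphism `e`: `A' P = (A (P.map e)).comap e` -/
theorem hb_transport (h : ∀ A, BS (S : Subgroup G) A → normalizer ((S : Subgroup G) : Set G) ≤ A S)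
    (e : G ≃* H) (S' : Subgroup H) (hS : (S : Subgroup G).map e.toMonoidHom = S') (A) (hA : BS S' A) :
    normalizer (S' : Set H) ≤ A S' := by
  subst hS
  have n : ∀ {P : Subgroup G} {g : G}, e g ∈ normalizer ((P.map e.toMonoidHom : Subgroup H) : Set H) ↔
      g ∈ normalizer (P : Set G) := fun {P g} => by
    rw [← map_equiv_normalizer_eq]
    exact mem_map_iff_mem (f := e.toMonoidHom) e.injective
  have c : ∀ {P : Subgroup G} {g : G}, e g ∈ centralizer ((P.map e.toMonoidHom : Subgroup H) : Set H) ↔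
      g ∈ centralizer (P : Set G) := fun {P g} =>
    ⟨fun a x hx => e.injective (by simpa using a _ (mem_map_of_mem _ hx)), by
      rintro a _ ⟨x, hx, rfl⟩
      simpa using congrArg e (a x hx)⟩
  have := h (fun P => (A (P.map e.toMonoidHom)).comap e.toMonoidHom)
    { le := fun P g hg => n.1 (hA.le _ hg)
      pelt := fun hP h1 h2 => hA.pelt (map_mono hP) (n.2 h1) (h2.map e.toMonoidHom)
      cent := fun hP g hg => hA.cent (map_mono hP) (c.2 hg)
      res := fun hP hQ h1 h2 => hA.res (map_mono hP) (map_mono hQ) h1 (n.2 h2)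
      ext := fun {P Q g} hP hQ h1 h2 h3 => hA.ext (map_mono hP) (map_mono hQ) (fun x hx h4 => by
        obtain ⟨x, rfl⟩ := e.surjective x
        exact mem_map_of_mem e.toMonoidHom (h1 x (c.1 hx) (by simpa using h4.map e.symm.toMonoidHom)))
        h2 (n.2 h3)
      nrm := fun hP h1 h2 => by simpa using hA.nrm (map_mono hP) (n.2 h1) h2 }
  intro g hg
  obtain ⟨g, rfl⟩ := e.surjective g
  exact this (n.1 hg)

theorem hb_of_one
    (h : ∀ A, BS (S : Subgroup G) A → normalizer ((S : Subgroup G) : Set G) ≤ A S) : HB G := by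
  intro S' A hA
  obtain ⟨g, rfl⟩ := MulAction.exists_smul_eq G S S'
  exact hb_transport S h (MulAut.conj g) _ (coe_smul_sylow g S).symm A hA

theorem hb_of_odd (h : ∀ A, BS (S : Subgroup G) A → ∀ g ∈ normalizer ((S : Subgroup G) : Set G),
    Odd (orderOf g) → g ∈ A S) : HB G := by
  refine hb_of_one S fun A hA g hg => ?_
  obtain ⟨a, ha, b, hb, h1, h2, e⟩ := exists_split g
  rw [e]
  exact mul_mem (hA.pelt le_rfl (zpowers_le.2 hg ha) h1) (h A hA b (zpowers_le.2 hg hb) h2)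

theorem hb_of_cent (h : ∀ g ∈ normalizer ((S : Subgroup G) : Set G), Odd (orderOf g) →
    g ∈ centralizer ((S : Subgroup G) : Set G)) : HB G :=
  hb_of_odd S fun _ hA g a b => hA.cent le_rfl (h g a b)

omit S [Finite G] in
theorem map_symm_map' (e : G ≃* H) (P : Subgroup H) :
    (P.map e.symm.toMonoidHom).map e.toMonoidHom = P := by
  rw [map_map]
  convert Subgroup.map_id P
  ext x; simp

omit S [Finite G] in
theorem opR_top_map (e : G ≃* H) {y : G} (hy : y ∈ opR 2 (⊤ : Subgroup G)) :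
    e y ∈ opR 2 (⊤ : Subgroup H) :=
  (opR_le_iff (K := (opR 2 (⊤ : Subgroup H)).comap e.toMonoidHom)).2
    (fun g _ hc => mem_opR (mem_top _) (e.orderOf_eq g ▸ hc)) hy

omit S in
theorem HB.congr (h : HB G) (e : G ≃* H) : HB H := by
  intro S' A hA
  have : Finite H := .of_equiv _ e.toEquiv
  exact hb_transport (S'.mapSurjective (f := e.symm.toMonoidHom) e.symm.surjective) (h _) e _
    (map_symm_map' e S') A hA

omit S in
theorem Gd.congr (h : Gd G) (e : G ≃* H) : Gd H := ⟨h.ns.congr e, h.hb.congr e⟩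

omit S in
theorem HP.congr (h : HP G) (e : G ≃* H) : HP H := by
  have o : ∀ {y : G}, e y ∈ opR 2 (⊤ : Subgroup H) ↔ y ∈ opR 2 (⊤ : Subgroup G) :=
    fun {y} => ⟨fun a => by simpa using opR_top_map e.symm a, opR_top_map e⟩
  refine ⟨fun a => h.ne (a.of_equiv e.symm), fun y hy => ?_, fun Y hY x hx h1 h2 y hy h3 => ?_⟩
  · obtain ⟨y, rfl⟩ := e.surjective y
    exact (closure_le (K := (closure {y | y ∈ opR 2 (⊤ : Subgroup H) ∧ E2 y}).comap e.toMonoidHom)).2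
      (fun x hx => subset_closure ⟨o.2 hx.1, hx.2.map e.toMonoidHom⟩) (h.gen (o.1 hy))
  · simpa using h.cs _ (hY.comap e.toMonoidHom) (e.symm x) (by simpa using hx) (by simpa using h1)
      (h2.map e.symm.toMonoidHom) (e.symm y) (o.1 (by simpa using hy)) (h3.map e.symm.toMonoidHom)

/-- `group_simple_of`; an `ASys` is a `BS` by `SylGrp.centric_iff` -/
theorem Gd.simple (h : Gd G) (h0 : (S : Subgroup G) ≠ ⊥) :
    (groupFusionSystem (S : Subgroup G)).IsSimple 2 := by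
  refine group_simple_of S h0 (h.ns.noSC S) fun A hA => h.hb S A
    ⟨hA.le, hA.pelt, hA.cent, hA.res, fun {P Q g} hP hQ h1 => hA.ext hP hQ ⟨hQ.trans hP, fun R hR => ?_⟩,
      fun hP h1 h2 => (mem_normalizer_iff.1 (hA.nrm hP h1) _).1 h2⟩
  obtain ⟨-, -, k, -, rfl⟩ := (grp_group _).isConj_iff.1 hR
  intro c hc
  have a := hc.2
  rw [← conj_centralizer] at a
  exact mem_conj.2 (h1 _ (mem_conj.1 a) (by simpa using (e2_of_mem S.2 hc.1).conj k⁻¹))

theorem constrained_of_normal (h : (groupFusionSystem (S : Subgroup G)).IsNormal S) :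
    (groupFusionSystem (S : Subgroup G)).IsConstrained 2 :=
  (sat_group S).constrained_of h inf_le_left

omit S in
theorem Gd.kf (h : Gd G) : KF G := by
  intro S
  by_cases h0 : (S : Subgroup G) = ⊥
  · exact .inr (constrained_of_normal S (by
      have := normal_bot (groupFusionSystem (S : Subgroup G))
      rwa [← h0] at this))
  · exact .inl (h.simple S h0)

theorem kf_transport (h : (groupFusionSystem (S : Subgroup G)).IsSimple 2 ∨
    (groupFusionSystem (S : Subgroup G)).IsConstrained 2) (e : G ≃* H) (S' : Subgroup H)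
    (hS : (S : Subgroup G).map e.toMonoidHom = S') :
    (groupFusionSystem S').IsSimple 2 ∨ (groupFusionSystem S').IsConstrained 2 := by
  have i := (grp_group (S : Subgroup G)).iso (homOn_hom ⊤ e.toMonoidHom) e.injective.injOn
    (grp_group S') ((im_hom _ _).trans (map_top_of_surjective _ e.surjective)) ((im_hom _ _).trans hS)
  exact h.imp (i.simple S.2) (i.constrained_iff S.2).2

omit S in
/-- `SylGrp.simple_congr`, and `Grp.iso` for constrained systems -/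
theorem KF.congr (h : KF G) (e : G ≃* H) : KF H := by
  intro S'
  have : Finite H := .of_equiv _ e.toEquiv
  exact kf_transport _ (h (S'.mapSurjective (f := e.symm.toMonoidHom) e.symm.surjective)) e _
    (map_symm_map' e S')

theorem kf_of_one (h : (groupFusionSystem (S : Subgroup G)).IsSimple 2 ∨
    (groupFusionSystem (S : Subgroup G)).IsConstrained 2) : KF G := by
  intro S'
  obtain ⟨g, rfl⟩ := MulAction.exists_smul_eq G S S'
  exact kf_transport S h (MulAut.conj g) _ (coe_smul_sylow g S).symm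

/-- abelian Sylow subgroup (`AbChain`, or Burnside) -/
theorem kf_of_comm (h : ∀ a ∈ (S : Subgroup G), ∀ b ∈ (S : Subgroup G), a * b = b * a) : KF G := by
  exact kf_of_one S (.inr (constrained_of_normal S
    ((sat_group S).normal_of_commutative (stronglyClosed_top _) h)))

/-- TI Sylow subgroup: `S` is normal in the fusion system (`isNormal_iff`) -/
theorem kf_of_ti (h : ∀ g : G, ∀ x ∈ (S : Subgroup G), x ≠ 1 → g * x * g⁻¹ ∈ (S : Subgroup G) →
    g ∈ normalizer ((S : Subgroup G) : Set G)) : KF G := by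
  refine kf_of_one S (.inr (constrained_of_normal S (isNormal_iff.2 ⟨le_rfl, fun P f hf => ?_⟩)))
  obtain ⟨g, -, h1, h2, -⟩ := (grp_group _).exists_conj hf
  obtain ⟨k, h3, h4⟩ : ∃ k ∈ normalizer ((S : Subgroup G) : Set G), ∀ x ∈ P, f x = k * x * k⁻¹ := by
    rcases P.bot_or_exists_ne_one with rfl | ⟨x, hx, hx1⟩
    · exact ⟨1, one_mem _, fun x hx => by rw [h1 x hx, mem_bot.1 hx]; simp⟩
    · exact ⟨g, h g x (hf.le hx) hx1 (conj_le_iff.1 h2 x hx), h1⟩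
  have e := conj_eq_self_iff.2 h3
  have l : P ⊔ (S : Subgroup G) ≤ S := sup_le hf.le le_rfl
  exact ⟨_, (grp_group _).mor_conj l (mem_top k) ((conj_mono k l).trans e.le),
    fun x hx => (h4 x hx).symm, (im_conj k _).trans e⟩

end Cfsg.Lib.FC
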