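import Cfsg.Agent.Lib.Fusion.SubSimple
import Cfsg.Agent.Lib.Fusion.Solv
import Cfsg.Agent.Lib.Grp.FusSimple

/-!
Tower FC (S5161): the 2-fusion system of every known simple group is simple or constrained.
Definitions. See `docs/FC.md`.
-/

set_option autoImplicit false

namespace Cfsg.Lib.FC
open Subgroup Cfsg.Lib.Fusion
open scoped commutatorElement

variable {G : Type*} [Group G]

/-- 2-element -/
def E2 (g : G) : Prop := ∃ k, g ^ 2 ^ k = 1

/-- the 2-fusion system is simple or constrained -/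
def KF (Y : Type*) [Group Y] : Prop :=
  ∀ S : Sylow 2 Y, (groupFusionSystem (S : Subgroup Y)).IsSimple 2 ∨
    (groupFusionSystem (S : Subgroup Y)).IsConstrained 2

/-- no nontrivial proper strongly closed 2-subgroup (`CSet 2 ⊤ X`: `X` is closed under conjugation
and meets every 2-subgroup in a subgroup) -/
def NS (Y : Type*) [Group Y] : Prop :=
  ∀ X : Set Y, CSet 2 ⊤ X → ∀ x ∈ X, x ≠ 1 → E2 x → ∀ y, E2 y → y ∈ X

/-- `A P` = elements inducing on `P` an automorphism of a normal subsystem of odd index -/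
structure BS (S : Subgroup G) (A : Subgroup G → Subgroup G) : Prop where
  le : ∀ P, A P ≤ normalizer (P : Set G)
  pelt : ∀ {P g}, P ≤ S → g ∈ normalizer (P : Set G) → E2 g → g ∈ A P
  cent : ∀ {P}, P ≤ S → centralizer (P : Set G) ≤ A P
  res : ∀ {P Q g}, P ≤ S → Q ≤ P → g ∈ A P → g ∈ normalizer (Q : Set G) → g ∈ A Q
  ext : ∀ {P Q g}, P ≤ S → Q ≤ P → (∀ c ∈ centralizer (Q : Set G), E2 c → c ∈ Q) → g ∈ A Q →
    g ∈ normalizer (P : Set G) → g ∈ A P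
  nrm : ∀ {P g x}, P ≤ S → g ∈ normalizer (P : Set G) → x ∈ A P → g * x * g⁻¹ ∈ A P

/-- no proper normal subsystem of odd index -/
def HB (Y : Type*) [Group Y] : Prop :=
  ∀ (S : Sylow 2 Y) A, BS (S : Subgroup Y) A → normalizer ((S : Subgroup Y) : Set Y) ≤ A S

/-- good: implies that the fusion system is simple -/
structure Gd (Y : Type*) [Group Y] : Prop where
  ns : NS Y
  hb : HB Y

/-- the quotient `C(z)/O₂(C(z))` of a good group of characteristic-2 shape -/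
structure HP (H : Type*) [Group H] : Prop where
  ne : ¬ IsPGroup 2 H
  gen : opR 2 (⊤ : Subgroup H) ≤ closure {y | y ∈ opR 2 (⊤ : Subgroup H) ∧ E2 y}
  cs : ∀ X : Set H, CSet 2 ⊤ X → ∀ x ∈ X, x ≠ 1 → E2 x →
    ∀ y ∈ opR 2 (⊤ : Subgroup H), E2 y → y ∈ X

/-- `π` maps the normal subgroup `K` of `G` onto `Y` with kernel `Z` central in `G`; `S` is a Sylow
2-subgroup of `K` -/
structure Cov {Y : Type*} [Group Y] (K Z S : Subgroup G) (π : K →* Y) : Prop where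
  nrm : K.Normal
  surj : Function.Surjective π
  ker : ∀ x : K, π x = 1 ↔ x.1 ∈ Z
  le : Z ≤ K
  cen : Z ≤ center G
  leS : S ≤ K
  pg : IsPGroup 2 S
  syl : ¬ 2 ∣ S.relIndex K

/-- preimage in `K` of the smallest nontrivial `CSet` of `K/Z`: invariant under all of `G` -/
structure CS (K Z : Subgroup G) (X : Set G) : Prop where
  le : X ⊆ K
  conj : ∀ {x} g, x ∈ X → g * x * g⁻¹ ∈ X
  sub : ∀ {R : Subgroup G}, R ≤ K → IsPGroup 2 R → ∃ T : Subgroup G, ∀ x, x ∈ T ↔ x ∈ R ∧ x ∈ X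
  cen : ∀ {x z}, x ∈ X → z ∈ Z → z * x ∈ X

/-- preimage in `K` of a `BS` of `K/Z` -/
structure BZ (K Z S : Subgroup G) (A : Subgroup G → Subgroup G) : Prop where
  le : ∀ {P g}, g ∈ A P → g ∈ K ∧ g ∈ normalizer (P : Set G)
  pelt : ∀ {P g}, P ≤ S → g ∈ K → g ∈ normalizer (P : Set G) → (∃ k, g ^ 2 ^ k ∈ Z) → g ∈ A P
  cent : ∀ {P g}, P ≤ S → g ∈ K → g ∈ normalizer (P : Set G) → (∀ x ∈ P, ⁅g, x⁆ ∈ Z) → g ∈ A P
  res : ∀ {P Q g}, P ≤ S → Q ≤ P → g ∈ A P → g ∈ normalizer (Q : Set G) → g ∈ A Q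
  ext : ∀ {P Q g}, P ≤ S → Q ≤ P → (∀ c ∈ K, (∀ x ∈ Q, ⁅c, x⁆ ∈ Z) → E2 c → c ∈ Q ⊔ Z) →
    g ∈ A Q → g ∈ normalizer (P : Set G) → g ∈ A P
  nrm : ∀ {P g x}, P ≤ S → g ∈ K → g ∈ normalizer (P : Set G) → x ∈ A P → g * x * g⁻¹ ∈ A P

end Cfsg.Lib.FC
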