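import Cfsg.Agent.Lib.FC.ExR
import Cfsg.Agent.Lib.Twisted.E6Data
import Cfsg.Agent.Lib.Twisted.D4
import Cfsg.Agent.Lib.St.LieDat

/-!
The conditions `RC` for the exceptional types (tower FC, S5161).
-/

set_option autoImplicit false
set_option maxRecDepth 100000

namespace Cfsg.Lib.FC
open Cfsg.Lie Cfsg.Lib.Chev Cfsg.Lib.Twisted Cfsg.Lib.St

theorem card_triv {ι Φ : Type} [Fintype ι] [DecidableEq ι] (R : RootSys ι Φ) :
    Nat.card (trivSym R).W1 = Nat.card R.W :=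
  congrArg (fun K : Subgroup _ => Nat.card K) (Subgroup.ext fun _ => and_iff_left fun _ => rfl)

theorem card_symE6 : Nat.card symE6.W1 = 1152 :=
  weyl_E6.elim fun e => (Nat.card_congr e.toEquiv).trans
    ((card_coxeter (coxeterF4_sys checkedF4)).trans (cardWF4 _))

theorem card_symD4 : Nat.card symD4.W1 = 12 :=
  weyl_D4.elim fun e => (Nat.card_congr e.toEquiv).trans
    ((card_coxeter (coxeterG2_sys checkedG2)).trans (cardWG2 _))

/-- certificate -/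
def cG2 : List (List (List (Fin 2) × Fin 2) × List (List ℕ) × List ℕ) :=
  [([([1, 0], 1)], [[0]], [0]),
  ([([], 0)], [], [1])]

/-- roots -/
def lG2 : List (Fin 12 × List ℤ) :=
  [(6, [-1, 2]), (10, [1, -1])]

theorem rcG2 : Nonempty (RC (trivSym checkedG2.R)) :=
  rc_of checkedG2 (trivSym checkedG2.R) (connG2 _) (fun i => [i]) lG2 (6 : Fin 12) (10 : Fin 12) cG2
    (by decide +kernel) (by decide +kernel) (by decide +kernel) (by decide +kernel)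
    (by decide +kernel) (by decide +kernel) (by rw [card_triv, cardWG2]; decide)

theorem wG2 : ∃ w ∈ checkedG2.R.W, ∀ r,
    w (((trivSym checkedG2.R)).ρ r) = checkedG2.R.neg (((trivSym checkedG2.R)).ρ r) :=
  exists_w0 checkedG2 (trivSym checkedG2.R) (trivSym checkedG2.R) ([0, 1, 0, 1, 0,
    1] : List (Fin 2)) (by decide +kernel)

/-- certificate -/
def cF4 : List (List (List (Fin 4) × Fin 4) × List (List ℕ) × List ℕ) :=
  [([([], 0), ([1, 3, 2, 1], 0)], [[5, 1, 5], [3, 0, 3], [1, 5, 1], [5], [0, 3, 0], [3]], [0, 6,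
    41, 47]),
  ([([0, 1], 2)], [[0], [2], [1], [0, 4, 0], [4]], [3, 44]),
  ([([], 2)], [[0], [1], [3], [2]], [19, 28]),
  ([([0, 1, 2, 1, 3, 2, 1], 0)], [[0], [1], [2]], [3]),
  ([([3, 2], 1)], [[0], [1]], [0]),
  ([([2], 1)], [[0]], [1]),
  ([([], 1)], [], [2])]

/-- roots -/
def lF4 : List (Fin 48 × List ℤ) :=
  [(24, [0, 0, -1, 2]), (25, [0, -1, 2, -1]), (30, [-1, 1, 0, -1]), (41, [1, 0, 0, -1])]

theorem rcF4 : Nonempty (RC (trivSym checkedF4.R)) :=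
  rc_of checkedF4 (trivSym checkedF4.R) (connF4 _) (fun i => [i]) lF4 (24 : Fin 48) (25 : Fin 48) cF4
    (by decide +kernel) (by decide +kernel) (by decide +kernel) (by decide +kernel)
    (by decide +kernel) (by decide +kernel) (by rw [card_triv, cardWF4]; decide)

theorem wF4 : ∃ w ∈ checkedF4.R.W, ∀ r,
    w (((trivSym checkedF4.R)).ρ r) = checkedF4.R.neg (((trivSym checkedF4.R)).ρ r) :=
  exists_w0 checkedF4 (trivSym checkedF4.R) (trivSym checkedF4.R) ([0, 1, 0, 2, 1, 0, 2, 1, 2, 3,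
    2, 1, 0, 2, 1, 2, 3, 2, 1, 0, 2, 1, 2, 3] : List (Fin 4)) (by decide +kernel)

/-- certificate -/
def cE6 : List (List (List (Fin 6) × Fin 6) × List (List ℕ) × List ℕ) :=
  [([([], 0), ([2, 3, 1, 4, 3, 2], 0)], [[0], [0, 3, 1, 3, 4, 5], [4], [3], [2], [5]], [0, 1, 2,
    3, 5, 6, 8, 11]),
  ([([], 3), ([4, 3], 1)], [[0], [3], [4], [1], [2]], [16, 17, 33, 35]),
  ([([], 3), ([2, 3], 1)], [[1], [0], [3], [2]], [18, 53]),
  ([([3, 2, 4, 3], 1)], [[0], [1], [2]], [18]),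
  ([([], 4)], [[0], [1]], [16]),
  ([([], 2)], [[0]], [2]),
  ([([], 1)], [], [0])]

/-- roots -/
def lE6 : List (Fin 72 × List ℤ) :=
  [(36, [0, 0, 0, 0, -1, 2]), (37, [0, 0, 0, -1, 2, -1]), (40, [0, -1, -1, 1, 1, -1]), (44, [-1,
    -1, 1, 0, 1, -1]), (48, [0, 1, -1, 0, 1, -1])]

theorem rcE6 : Nonempty (RC (trivSym checkedE6.R)) :=
  rc_of checkedE6 (trivSym checkedE6.R) (connE6 _) (fun i => [i]) lE6 (36 : Fin 72) (37 : Fin 72) cE6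
    (by decide +kernel) (by decide +kernel) (by decide +kernel) (by decide +kernel)
    (by decide +kernel) (by decide +kernel) (by rw [card_triv, cardWE6]; decide)

/-- certificate -/
def cE7 : List (List (List (Fin 7) × Fin 7) × List (List ℕ) × List ℕ) :=
  [([([], 0), ([2, 3, 1, 4, 3, 2], 0)], [[0], [0, 6, 1, 6, 7, 8], [3], [2], [7], [5], [6], [4],
    [8]], [0, 125]),
  ([([], 3), ([4, 3], 1)], [[0], [1], [2], [6], [4], [7], [3], [5]], [38, 59, 66, 87]),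
  ([([], 3), ([2, 3], 1)], [[0], [1], [4], [3], [2], [6], [5]], [38, 87]),
  ([([0, 2, 3, 1, 4, 3, 2, 5, 4, 3, 1, 6, 5, 4, 3, 2], 0)], [[0], [1], [2], [3], [4], [5]], [0]),
  ([([5, 4, 3, 2, 6, 5, 4, 3], 1)], [[0], [1], [2], [3], [4]], [33]),
  ([([3, 2, 4, 3], 1)], [[0], [1], [2], [3]], [38]),
  ([([], 6)], [[0], [1], [2]], [62]),
  ([([], 4)], [[0], [1]], [34]),
  ([([], 2)], [[0]], [1]),
  ([([], 1)], [], [3])]

/-- roots -/
def lE7 : List (Fin 126 × List ℤ) :=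
  [(63, [0, 0, 0, 0, 0, -1, 2]), (64, [0, 0, 0, 0, -1, 2, -1]), (67, [0, 0, 0, -1, 1, 1, -1]),
    (71, [0, -1, -1, 1, 0, 1, -1]), (76, [-1, -1, 1, 0, 0, 1, -1]), (97, [1, -1, 0, 0, 0, 1, -1])]

theorem rcE7 : Nonempty (RC (trivSym checkedE7.R)) :=
  rc_of checkedE7 (trivSym checkedE7.R) (connE7 _) (fun i => [i]) lE7 (63 : Fin 126) (64 : Fin 126) cE7
    (by decide +kernel) (by decide +kernel) (by decide +kernel) (by decide +kernel)
    (by decide +kernel) (by decide +kernel) (by rw [card_triv, cardWE7]; decide)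

theorem wE7 : ∃ w ∈ checkedE7.R.W, ∀ r,
    w (((trivSym checkedE7.R)).ρ r) = checkedE7.R.neg (((trivSym checkedE7.R)).ρ r) :=
  exists_w0 checkedE7 (trivSym checkedE7.R) (trivSym checkedE7.R) ([0, 1, 2, 0, 3, 1, 2, 0, 3, 2,
    4, 3, 1, 2, 0, 3, 2, 4, 3, 1, 5, 4, 3, 1, 2, 0, 3, 2, 4, 3, 1, 5, 4, 3, 2, 0, 6, 5, 4, 3, 1,
    2, 0, 3, 2, 4, 3, 1, 5, 4, 3, 2, 0, 6, 5, 4, 3, 1, 2, 3, 4, 5,
    6] : List (Fin 7)) (by decide +kernel)

/-- certificate -/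
def cE8 : List (List (List (Fin 8) × Fin 8) × List (List ℕ) × List ℕ) :=
  [([([], 5), ([6, 5], 4), ([7, 6, 5, 4], 3), ([2, 0, 3, 2, 4, 3, 1, 5, 4, 3, 2, 6, 5, 4, 3, 1,
    7, 6, 5, 4, 3, 2], 0)], [[4], [3], [2], [1], [0], [12], [11], [8], [7], [10], [9], [6], [5]],
    [0, 13, 80, 118, 121, 159, 226, 239]),
  ([([], 7), ([6, 5, 4, 3, 2, 7, 6, 5, 4, 3], 1)], [[0], [1, 6, 8, 0, 6, 8], [2], [3], [5], [4],
    [8], [7], [6], [9], [10], [11]], [0, 118, 121, 239]),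
  ([([], 7), ([5, 4, 3, 1, 2, 0, 3, 2, 4, 3, 1, 5, 4, 3, 2, 6, 5, 4, 3, 1, 7, 6, 5, 4, 3, 2],
    0)], [[0], [1], [2], [7], [5], [4], [6], [3], [8], [9], [10]], [0, 239]),
  ([([], 0), ([2, 3, 1, 4, 3, 2], 0)], [[0], [0, 7, 1, 7, 8, 9], [2], [4], [3], [8], [6], [7],
    [5], [9]], [13, 226]),
  ([([], 3), ([4, 3], 1)], [[0], [1], [2], [3], [7], [5], [8], [4], [6]], [87, 113, 126, 152]),
  ([([], 3), ([2, 3], 1)], [[0], [1], [2], [5], [4], [3], [7], [6]], [87, 152]),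
  ([([7, 6, 5, 4, 3, 1, 2, 0, 3, 2, 4, 3, 1, 5, 4, 3, 2, 6, 5, 4, 3, 1, 7, 6, 5, 4, 3, 2], 0)],
    [[0], [1], [2], [3], [4], [5], [6]], [0]),
  ([([0, 2, 3, 1, 4, 3, 2, 5, 4, 3, 1, 6, 5, 4, 3, 2], 0)], [[0], [1], [2], [3], [4], [5]], [13]),
  ([([5, 4, 3, 2, 6, 5, 4, 3], 1)], [[0], [1], [2], [3], [4]], [80]),
  ([([3, 2, 4, 3], 1)], [[0], [1], [2], [3]], [87]),
  ([([], 6)], [[0], [1], [2]], [1]),
  ([([], 4)], [[0], [1]], [3]),
  ([([], 2)], [[0]], [16]),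
  ([([], 1)], [], [5])]

/-- roots -/
def lE8 : List (Fin 240 × List ℤ) :=
  [(120, [0, 0, 0, 0, 0, 0, -1, 2]), (121, [0, 0, 0, 0, 0, -1, 2, -1]), (124, [0, 0, 0, 0, -1, 1,
    1, -1]), (128, [0, 0, 0, -1, 1, 0, 1, -1]), (133, [0, -1, -1, 1, 0, 0, 1, -1]), (139, [-1,
    -1, 1, 0, 0, 0, 1, -1]), (145, [0, 1, -1, 0, 0, 0, 1, -1])]

theorem rcE8 : Nonempty (RC (trivSym checkedE8.R)) :=
  rc_of checkedE8 (trivSym checkedE8.R) (connE8 _) (fun i => [i]) lE8 (120 : Fin 240) (121 : Fin 240) cE8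
    (by decide +kernel) (by decide +kernel) (by decide +kernel) (by decide +kernel)
    (by decide +kernel) (by decide +kernel) (by rw [card_triv, cardWE8]; decide)

theorem wE8 : ∃ w ∈ checkedE8.R.W, ∀ r,
    w (((trivSym checkedE8.R)).ρ r) = checkedE8.R.neg (((trivSym checkedE8.R)).ρ r) :=
  exists_w0 checkedE8 (trivSym checkedE8.R) (trivSym checkedE8.R) ([0, 1, 2, 0, 3, 1, 2, 0, 3, 2,
    4, 3, 1, 2, 0, 3, 2, 4, 3, 1, 5, 4, 3, 1, 2, 0, 3, 2, 4, 3, 1, 5, 4, 3, 2, 0, 6, 5, 4, 3, 1,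
    2, 0, 3, 2, 4, 3, 1, 5, 4, 3, 2, 0, 6, 5, 4, 3, 1, 2, 3, 4, 5, 6, 7, 6, 5, 4, 3, 1, 2, 0, 3,
    2, 4, 3, 1, 5, 4, 3, 2, 0, 6, 5, 4, 3, 1, 2, 3, 4, 5, 6, 7, 6, 5, 4, 3, 1, 2, 0, 3, 2, 4, 3,
    1, 5, 4, 3, 2, 0, 6, 5, 4, 3, 1, 2, 3, 4, 5, 6, 7] : List (Fin 8)) (by decide +kernel)

/-- certificate -/
def cE6d : List (List (List (Fin 4) × Fin 4) × List (List ℕ) × List ℕ) :=
  [([([], 0), ([1, 3, 2, 1], 0)], [[5, 1, 5], [3, 0, 3], [1, 5, 1], [5], [0, 3, 0], [3]], [0, 11,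
    60, 71]),
  ([([0, 1], 2)], [[0], [2], [1], [0, 4, 0], [4]], [0, 71]),
  ([([], 2)], [[0], [1], [3], [2]], [27, 44]),
  ([([0, 1, 2, 1, 3, 2, 1], 0)], [[0], [1], [2]], [0]),
  ([([3, 2], 1)], [[0], [1]], [3]),
  ([([2], 1)], [[0]], [4]),
  ([([], 1)], [], [1])]

/-- roots -/
def lE6d : List (Fin 72 × List ℤ) :=
  [(39, [0, -1, -1, 2, -1, 0]), (46, [0, 2, 0, -1, 0, 0]), (51, [-1, 1, 1, -1, 1, -1]), (63, [1,
    1, 0, -1, 0, 1])]

theorem rcE6d : Nonempty (RC symE6) :=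
  rc_of checkedE6 symE6 (connE6 _) keysE6.ws lE6d (39 : Fin 72) (46 : Fin 72) cE6d
    (by decide +kernel) (by decide +kernel) (by decide +kernel) (by decide +kernel)
    (by decide +kernel) (by decide +kernel) (fun h => absurd (h.trans card_symE6.dvd) (by decide))

/-- certificate -/
def cD4 : List (List (List (Fin 2) × Fin 2) × List (List ℕ) × List ℕ) :=
  [([([1, 0], 1)], [[0]], [2]),
  ([([], 0)], [], [0])]

/-- roots -/
def lD4 : List (Fin 24 × List ℤ) :=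
  [(14, [-1, 2, -1, -1]), (22, [1, -1, 1, 1])]

theorem rcD4 : Nonempty (RC symD4) :=
  rc_of checkedD4 symD4 (connD4 _) keysD4.ws lD4 (14 : Fin 24) (22 : Fin 24) cD4
    (by decide +kernel) (by decide +kernel) (by decide +kernel) (by decide +kernel)
    (by decide +kernel) (by decide +kernel) (fun h => absurd (h.trans card_symD4.dvd) (by decide))

theorem wE6 : ∃ w ∈ checkedE6.R.W, ∀ r,
    w (((trivSym checkedE6.R)).ρ r) = checkedE6.R.neg ((symE6).ρ r) :=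
  exists_w0 checkedE6 (trivSym checkedE6.R) symE6 ([0, 1, 2, 0, 3, 1, 2, 0, 3, 2, 4, 3, 1, 2, 0,
    3, 2, 4, 3, 1, 5, 4, 3, 1, 2, 0, 3, 2, 4, 3, 1, 5, 4, 3, 2,
    0] : List (Fin 6)) (by decide +kernel)

theorem wE6d : ∃ w ∈ checkedE6.R.W, ∀ r,
    w ((symE6).ρ r) = checkedE6.R.neg (((trivSym checkedE6.R)).ρ r) :=
  exists_w0 checkedE6 symE6 (trivSym checkedE6.R) ([0, 1, 2, 0, 3, 1, 2, 0, 3, 2, 4, 3, 1, 2, 0,
    3, 2, 4, 3, 1, 5, 4, 3, 1, 2, 0, 3, 2, 4, 3, 1, 5, 4, 3, 2,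
    0] : List (Fin 6)) (by decide +kernel)

theorem wD4 : ∃ w ∈ checkedD4.R.W, ∀ r, w ((symD4).ρ r) = checkedD4.R.neg ((symD4).ρ r) :=
  exists_w0 checkedD4 symD4 symD4 ([0, 1, 0, 2, 1, 0, 3, 1, 0, 2, 1,
    3] : List (Fin 4)) (by decide +kernel)

end Cfsg.Lib.FC
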