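import Cfsg.Agent.Lib.FC.SpH
import Cfsg.Agent.Lib.KI.SpHe

/-!
`He` (tower FC, S5161), by the method of `Lib/FC/SpH` in the permutation model of `Lib/KI/SpHe`.
-/

set_option autoImplicit false
set_option maxRecDepth 100000

namespace Cfsg.Lib.FC
open Subgroup

namespace Ph.He

open Cfsg.Lib.Calc Cfsg.Lib.F2 Cfsg.Lib.Grp

/-- words for the elements of the dictionary -/
def w0 : List (List ℕ) := [[1, 4, 5, 6, 4, 3, 2, 4, 7, 4, 3, 5, 4, 3, 4, 6, 2, 3, 4, 2, 3, 4, 6, 7, 2, 3, 2, 1], [1, 2, 3, 4, 3, 7, 4, 3, 2, 6, 4, 3, 2, 7, 4, 6, 7, 4, 5, 3, 4, 2, 3, 4, 6, 4, 3, 4, 3, 1], [3, 2, 4, 3, 2, 1, 7, 4, 3, 2, 4, 6, 4, 7, 4, 3, 4, 2, 3, 4, 6, 4, 5, 4, 2, 3], [1, 4, 5, 4, 3, 4, 3, 2, 1, 6, 4, 5, 3, 4, 3, 4, 6, 2, 3, 4, 3, 4, 5, 4], [3, 2, 4, 3, 2, 4, 7, 4, 3, 6, 4, 3, 4, 3, 7, 6,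 4, 2, 3, 4, 3, 4, 7, 5, 4, 2, 3, 1], [3, 2, 5, 4, 3, 2, 4, 3, 7, 4, 3, 2, 4, 3, 4, 7, 3, 4, 3, 4, 6, 2, 3, 4, 3, 4, 6, 5], [4, 3, 4, 5, 6, 4, 3, 2, 4, 7, 4, 3, 2, 5, 4, 6, 3, 4, 2, 3, 4, 7, 3, 4, 6, 3, 4, 7], [1, 4, 3, 6, 4, 3, 2, 1, 7, 4, 3, 5, 4, 7, 6, 4, 3, 4, 5, 2, 3, 4, 7, 3, 4, 2, 3, 4, 3, 2], [1, 2, 1, 4, 3, 4, 6, 7, 4, 3, 2, 4, 3, 4, 5, 3, 4, 2, 3, 4, 7, 6, 4, 3, 4, 2, 1], [2, 4, 6, 4, 3, 2, 5, 4, 3, 2, 4, 3, 4, 5, 2, 3, 4, 2, 3, 4, 6, 3, 4, 2, 1], [5, 4, 6, 3, 4, 3, 4, 5, 2, 3, 4, 6, 3, 4, 7, 1, 2, 3, 2, 4, 3, 4, 7, 4, 3, 4, 3, 2, 4, 6, 7], [5, 4, 6, 7, 2, 3, 2, 1, 6, 4, 3, 4, 6, 3, 4, 3, 4, 6, 5, 2, 3, 1, 2, 4, 3, 2, 6, 4, 3, 2, 4, 3, 6, 4, 3, 4, 3], [5, 3, 4, 2, 3, 4, 6, 2, 3, 4, 5, 3, 4, 1, 2, 1, 1, 3, 2, 5, 4, 6, 7, 4, 3, 4, 5, 4, 6, 4, 3, 7], [6, 4, 3, 4,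 2, 3, 4, 2, 3, 4, 7, 4, 3, 2, 1, 1, 4, 3, 4, 7, 4, 3, 4, 3, 2, 6, 4, 3, 5, 4]]

theorem ok : dicK Calc.He.net 2058 12 (ap2 12) w0 [] (fun D => chk 2058 (ap2 12) D KI.He.bs [0, 1, 2, 3, 4, 5, 6, 7, 8, 9] 7 0
    [(0, 1293), (1, 806)] (1 <<< 1414 ||| 1 <<< 1422) [1414, 1422] [10, 11]
    [([], []), ([11, 11, 11, 11, 11, 11], [11]), ([11, 11, 11, 11, 11], [11, 11]), ([11, 11, 11, 11], [11, 11, 11]), ([11, 11, 11], [11, 11, 11, 11]), ([11, 11], [11, 11, 11, 11, 11]), ([11], [11, 11, 11, 11, 11, 11]), ([10, 10], [10]), ([11, 11, 11, 11, 11, 11, 10, 10], [10, 11]), ([11, 11, 11, 11, 11, 10, 10], [10, 11, 11]), ([11, 11, 11, 11, 10, 10], [10, 11, 11, 11]), ([11, 11, 11, 10, 10], [10, 11, 11, 11, 11]), ([11, 11, 10, 10], [10, 11, 11, 11, 11, 11]), ([11, 10, 10], [10, 11, 11, 11,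 11, 11, 11]), ([10], [10, 10]), ([11, 11, 11, 11, 11, 11, 10], [10, 10, 11]), ([11, 11, 11, 11, 11, 10], [10, 10, 11, 11]), ([11, 11, 11, 11, 10], [10, 10, 11, 11, 11]), ([11, 11, 11, 10], [10, 10, 11, 11, 11, 11]), ([11, 11, 10], [10, 10, 11, 11, 11, 11, 11]), ([11, 10], [10, 10, 11, 11, 11, 11, 11, 11])]
    [([], [11, 12, 14, 11, 12, 0], [9]), ([], [9, 12, 14], [8]), ([], [0], [7]), ([], [12, 0], [6]), ([], [7, 10, 7, 8, 10, 8], [5]), ([], [7, 9, 7, 9], [4]), ([], [5, 8, 5, 6, 7, 8, 6, 7], [3]), ([], [4, 7, 5, 7], [2]), ([], [4, 7, 0], [1]), ([], [2, 5, 1, 0], [0]), ([10, 11], [2, 1], [0, 1, 3, 4, 6, 9]), ([13], [2], [1, 2, 4, 6]), ([13, 13], [1], [1, 6]), ([11, 11, 11, 11], [2], [0, 1, 3, 4, 8, 9]), ([12], [1], [5, 9]), ([13], [0], [6, 7])]) = true := by decide +kernel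

attribute [local instance] Calc.He.act

theorem gd : FC.Gd Spor.He :=
  gd_of (KI.cx OutS.He.netG OutS.He.cA (ap2_eq 12) w0)
    (pg_congr (gam_map _ (by decide)) ((KI.cx OutS.He.netG OutS.He.cA (ap2_eq 12) KI.He.K.w0).pgp two_pos
      (band_eq_true.1 (of_dicK KI.He.K.ok)).1)) (by decide)
    ((congrArg (fun x => Nat.card (centralizer {x})) (KI.gam_eq _ (by decide))).trans
      (KI.card_cen1 (KI.cx OutS.He.netG OutS.He.cA (ap2_eq 12) KI.He.aA.w0) (band_eq_true.1 (of_dicK KI.He.aA.ok)).1)).le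
    (of_dicK ok) (by decide) (by decide)

end Ph.He

end Cfsg.Lib.FC
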